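import Groth.Prelude.Def_Pi1
import Groth.Prelude.Def_EtAcyc
import Groth.Agent.Etbase.NormalSepClosed
import Groth.Agent.EtpbcB.StrictHensTransport
import Mathlib.AlgebraicGeometry.FunctionField
import Mathlib.AlgebraicGeometry.ResidueField
import Mathlib.AlgebraicGeometry.Morphisms.Preimmersion

/-!
# Local rings of normal schemes with separably closed function field
-/

set_option autoImplicit false
universe u

open CategoryTheory CategoryTheory.Limits AlgebraicGeometry Opposite IsLocalRing

namespace Groth.Agent.Etbc.H252.NormalStalk

/-- Separable closedness is invariant under ring isomorphisms. -/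
theorem isSepClosed_of_ringEquiv {K L : Type*} [Field K] [Field L] (e : K ≃+* L) [IsSepClosed K] :
    IsSepClosed L := by
  refine IsSepClosed.of_exists_root L (fun p hp hirr hsep => ?_)
  have h1 : (p.map (e.symm : L →+* K)).Separable := hsep.map
  have h2 : (p.map (e.symm : L →+* K)).degree ≠ 0 := by
    rw [Polynomial.degree_map]
    exact hirr.degree_pos.ne'
  obtain ⟨x, hx⟩ := IsSepClosed.exists_root _ h2 h1
  refine ⟨e x, ?_⟩
  have h3 : p = (p.map (e.symm : L →+* K)).map (e : K →+* L) := by
    rw [Polynomial.map_map]
    simp
  rw [h3, Polynomial.eval_map]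
  have h4 := Polynomial.eval₂_at_apply (p := p.map (e.symm : L →+* K)) (e : K →+* L) x
  rw [hx.eq_zero, map_zero] at h4
  exact h4

variable {Y : Scheme.{u}} [IsIntegral Y]

/-- The function field is separably closed. -/
theorem isSepClosed_functionField [IsSepClosed (Y.residueField (genericPoint Y))] :
    IsSepClosed Y.functionField := by
  have h : Function.Bijective (IsLocalRing.residue Y.functionField) :=
    ⟨RingHom.injective _, IsLocalRing.residue_surjective⟩
  have h0 : IsSepClosed (IsLocalRing.ResidueField Y.functionField) :=
    inferInstanceAs (IsSepClosed (Y.residueField (genericPoint Y)))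
  exact isSepClosed_of_ringEquiv (RingEquiv.ofBijective _ h).symm

theorem strictlyHenselian [IsSepClosed (Y.residueField (genericPoint Y))] (hY : Pi1.IsNormalScheme Y) (y : Y) :
    HenselianLocalRing (Y.presheaf.stalk y) ∧ IsSepClosed (ResidueField (Y.presheaf.stalk y)) := by
  have h1 := (hY y).1
  have h2 := (hY y).2
  have h3 := isSepClosed_functionField (Y := Y)
  exact ⟨Etbase.NormalSepClosed.henselianLocalRing Y.functionField,
    Etbase.NormalSepClosed.isSepClosed_residueField Y.functionField⟩

end Groth.Agent.Etbc.H252.NormalStalk
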